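import Groth.Prelude.Def_CInt
import Mathlib.AlgebraicGeometry.Morphisms.Flat
import Mathlib.AlgebraicGeometry.Morphisms.Separated
import Mathlib.AlgebraicGeometry.Morphisms.UnderlyingMap
import Mathlib.AlgebraicGeometry.Morphisms.SchemeTheoreticallyDominant
import Mathlib.AlgebraicGeometry.Morphisms.FlatMono

set_option linter.unusedSectionVars false
set_option linter.unusedVariables false
set_option linter.unusedSimpArgs false
set_option autoImplicit false
set_option linter.style.haveILetI false
set_option maxHeartbeats 400000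

namespace Groth.Agent.Helper6.SchBirLib

open AlgebraicGeometry CategoryTheory Limits

universe u

/-- Schematic density in the sense of the prelude implies scheme-theoretic dominance of the
inclusion (when the latter is quasi-compact). -/
lemma isSchemeTheoreticallyDominant_ι {X : Scheme.{u}} (V : X.Opens) [QuasiCompact V.ι]
    (hV : CInt.IsSchematicallyDense V) : IsSchemeTheoreticallyDominant V.ι := by
  rw [isSchemeTheoreticallyDominant_iff]
  ext W x
  rw [Scheme.Hom.ker_apply, RingHom.mem_ker]
  show _ ↔ x ∈ (⊥ : Ideal _)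
  rw [Ideal.mem_bot]
  constructor
  · intro hx
    apply hV W.1
    rw [map_zero]
    have hle : W.1 ⊓ V ≤ V.ι ''ᵁ V.ι ⁻¹ᵁ W.1 := by
      rintro y ⟨hyW, hyV⟩
      exact ⟨⟨y, hyV⟩, hyW, rfl⟩
    have hle' : V.ι ''ᵁ V.ι ⁻¹ᵁ W.1 ≤ W.1 := by
      rintro _ ⟨y, hy, rfl⟩
      exact hy
    have e : X.presheaf.map (homOfLE (inf_le_left : W.1 ⊓ V ≤ W.1)).op =
        X.presheaf.map (homOfLE hle').op ≫ X.presheaf.map (homOfLE hle).op := by
      rw [← Functor.map_comp]; rfl
    rw [e, CommRingCat.comp_apply]
    have hx' : (X.presheaf.map (homOfLE hle').op).hom x = 0 := hx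
    rw [hx', map_zero]
  · rintro rfl
    exact map_zero _

theorem isIso_of_schematicallyBirational {X S : Scheme.{u}} (f : X ⟶ S)
    [Flat f] [Surjective f] [QuasiCompact f] [IsSeparated f]
    (U : S.Opens) (V : X.Opens) [QuasiCompact V.ι]
    (hV : CInt.IsSchematicallyDense V)
    (hle : V ≤ f ⁻¹ᵁ U) (hiso : IsIso (f.resLE U V hle)) : IsIso f := by
  haveI hVd : IsSchemeTheoreticallyDominant V.ι := isSchemeTheoreticallyDominant_ι V hV
  -- `a : V ⟶ S` is a flat monomorphism
  let a : (V : Scheme.{u}) ⟶ S := V.ι ≫ f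
  have ha : a = f.resLE U V hle ≫ U.ι := (Scheme.Hom.resLE_comp_ι f hle).symm
  haveI : Mono a := by rw [ha]; infer_instance
  haveI : Flat a := by dsimp only [a]; infer_instance
  -- the two intermediate maps
  let m₂ : pullback f a ⟶ pullback f f :=
    pullback.map f a f f (𝟙 X) V.ι (𝟙 S) (by simp) (by simp [a])
  let m₁ : pullback a a ⟶ pullback f a :=
    pullback.map a a f a V.ι (𝟙 _) (𝟙 S) (by simp [a]) (by simp)
  have hm₂ : IsPullback (pullback.snd f a) m₂ V.ι (pullback.snd f f) := by
    have s : IsPullback (pullback.snd f a) (m₂ ≫ pullback.fst f f) (V.ι ≫ f) f := by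
      have : m₂ ≫ pullback.fst f f = pullback.fst f a :=
        (pullback.lift_fst _ _ _).trans (Category.comp_id _)
      rw [this]
      exact (IsPullback.of_hasPullback f a).flip
    exact IsPullback.of_bot s (pullback.lift_snd _ _ _).symm (IsPullback.of_hasPullback f f).flip
  have hm₁ : IsPullback (pullback.fst a a) m₁ V.ι (pullback.fst f a) := by
    have s : IsPullback (pullback.fst a a) (m₁ ≫ pullback.snd f a) (V.ι ≫ f) a := by
      have : m₁ ≫ pullback.snd f a = pullback.snd a a :=
        (pullback.lift_snd _ _ _).trans (Category.comp_id _)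
      rw [this]
      exact IsPullback.of_hasPullback a a
    exact IsPullback.of_bot s (pullback.lift_fst _ _ _).symm (IsPullback.of_hasPullback f a)
  haveI : IsSchemeTheoreticallyDominant m₂ := IsSchemeTheoreticallyDominant.of_isPullback hm₂
  haveI : IsSchemeTheoreticallyDominant m₁ := IsSchemeTheoreticallyDominant.of_isPullback hm₁
  haveI : IsSchemeTheoreticallyDominant (m₁ ≫ m₂) := inferInstance
  -- `m₁ ≫ m₂` factors through the diagonal
  have hfs : pullback.fst a a = pullback.snd a a := by
    rw [← cancel_mono a]; exact pullback.condition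
  have hfac : m₁ ≫ m₂ = (pullback.fst a a ≫ V.ι) ≫ pullback.diagonal f := by
    have e1 : m₂ ≫ pullback.fst f f = pullback.fst f a :=
      (pullback.lift_fst _ _ _).trans (Category.comp_id _)
    have e2 : m₂ ≫ pullback.snd f f = pullback.snd f a ≫ V.ι := pullback.lift_snd _ _ _
    have e3 : m₁ ≫ pullback.fst f a = pullback.fst a a ≫ V.ι := pullback.lift_fst _ _ _
    have e4 : m₁ ≫ pullback.snd f a = pullback.snd a a :=
      (pullback.lift_snd _ _ _).trans (Category.comp_id _)
    apply pullback.hom_ext
    · rw [Category.assoc, e1, e3, Category.assoc, pullback.diagonal_fst, Category.comp_id]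
    · rw [Category.assoc, e2, ← Category.assoc, e4, Category.assoc, pullback.diagonal_snd,
        Category.comp_id, hfs]
  -- hence the diagonal is scheme-theoretically dominant, hence an iso
  have hker : (pullback.diagonal f).ker = ⊥ := by
    have h1 := Scheme.Hom.le_ker_comp (pullback.fst a a ≫ V.ι) (pullback.diagonal f)
    rw [← hfac, Scheme.Hom.ker_eq_bot (m₁ ≫ m₂)] at h1
    exact le_bot_iff.mp h1
  haveI : IsIso (pullback.diagonal f) := IsClosedImmersion.isIso_iff_ker_eq_bot.mpr hker
  haveI : Mono f := by
    refine ⟨fun {Z} g h hgh => ?_⟩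
    have h1 : pullback.lift g h hgh ≫ pullback.fst f f = g := pullback.lift_fst _ _ _
    have h2 : pullback.lift g h hgh ≫ pullback.snd f f = h := pullback.lift_snd _ _ _
    have h3 : pullback.fst f f = pullback.snd f f := by
      rw [← cancel_epi (pullback.diagonal f)]
      simp
    rw [← h1, h3, h2]
  exact Flat.isIso_of_surjective_of_mono f

end Groth.Agent.Helper6.SchBirLib
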